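import Mathlib
import Cfsg.Agent.Lib.Helper79.NilCover.Defs

/-!
# S3894 package [U]: the regular unipotent matrix `ncU`
-/

set_option autoImplicit false

namespace Cfsg.Agent.Lib.Helper67.NilCover

open Matrix Cfsg.Agent.Lib.Helper79.NilCover

universe u

/-- extension of a vector by zero -/
def extW {n : ℕ} {F : Type u} [Field F] (w : Fin n → F) (k : ℕ) : F :=
  if h : k < n then w ⟨k, h⟩ else 0

theorem extW_of_lt {n : ℕ} {F : Type u} [Field F] (w : Fin n → F) (i : Fin n) :
    extW w i.val = w i := by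
  unfold extW
  rw [dif_pos i.isLt]

theorem extW_of_ge {n : ℕ} {F : Type u} [Field F] (w : Fin n → F) (k : ℕ) (hk : n ≤ k) :
    extW w k = 0 := by
  unfold extW
  rw [dif_neg (by omega)]

theorem ncU_apply_eq {n : ℕ} {F : Type u} [Field F] (i j : Fin n) :
    ncU n F i j = (if j = i then (1 : F) else 0) + (if j.val = i.val + 1 then (1 : F) else 0) := by
  unfold ncU
  by_cases h1 : j = i
  · subst h1
    simp
  · by_cases h2 : j.val = i.val + 1
    · simp [h1, h2]
    · simp [h1, h2]

theorem ncU_mulVec_apply {n : ℕ} {F : Type u} [Field F] (w : Fin n → F) (i : Fin n) :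
    (ncU n F *ᵥ w) i = w i + extW w (i.val + 1) := by
  have h0 : (ncU n F *ᵥ w) i = ∑ j, ncU n F i j * w j := rfl
  rw [h0]
  have h1 : ∀ j : Fin n, ncU n F i j * w j =
      (if j = i then w j else 0) + (if j.val = i.val + 1 then w j else 0) := by
    intro j
    rw [ncU_apply_eq, add_mul, ite_mul, ite_mul, one_mul, zero_mul]
  rw [Finset.sum_congr rfl (fun j _ => h1 j), Finset.sum_add_distrib,
    Finset.sum_ite_eq' Finset.univ i w]
  simp only [Finset.mem_univ, if_true]
  congr 1
  by_cases h : i.val + 1 < n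
  · have h2 : extW w (i.val + 1) = w ⟨i.val + 1, h⟩ := by
      unfold extW
      rw [dif_pos h]
    rw [h2, Finset.sum_eq_single (⟨i.val + 1, h⟩ : Fin n)]
    · simp
    · intro b _ hb
      rw [if_neg]
      intro hb'
      exact hb (Fin.ext hb')
    · intro hh
      exact absurd (Finset.mem_univ _) hh
  · rw [extW_of_ge w _ (by omega)]
    apply Finset.sum_eq_zero
    intro b _
    rw [if_neg]
    intro hb
    have := b.isLt
    omega

/-- the recursion behind [U] and [UD] -/
theorem rec_zero {F : Type u} [Field F] (W : ℕ → F) (c : F) (n : ℕ)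
    (hrec : ∀ k, W (k + 1) = (c - 1) * W k) (hn : W n = 0) : ∀ k, W (k + 1) = 0 := by
  have hpow : ∀ k, W k = (c - 1) ^ k * W 0 := by
    intro k
    induction k with
    | zero => simp
    | succ k ih => rw [hrec, ih, pow_succ]; ring
  intro k
  have h1 : (c - 1) ^ n * W 0 = 0 := by rw [← hpow]; exact hn
  rcases mul_eq_zero.mp h1 with h | h
  · have hc : c - 1 = 0 := eq_zero_of_pow_eq_zero h
    rw [hrec, hc, zero_mul]
  · rw [hpow, h, mul_zero]

theorem eigen_single {n : ℕ} {F : Type u} [Field F] (hn : 0 < n) (w : Fin n → F) (c : F)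
    (h : ncU n F *ᵥ w = c • w) :
    w = w ⟨0, hn⟩ • (Pi.single (⟨0, hn⟩ : Fin n) (1 : F) : Fin n → F) := by
  have hrec : ∀ k, extW w (k + 1) = (c - 1) * extW w k := by
    intro k
    by_cases hk : k < n
    · have h1 := congrFun h ⟨k, hk⟩
      rw [ncU_mulVec_apply] at h1
      have h2 : extW w k = w ⟨k, hk⟩ := extW_of_lt w ⟨k, hk⟩
      rw [h2]
      have h3 : (c • w) ⟨k, hk⟩ = c * w ⟨k, hk⟩ := rfl
      rw [h3] at h1
      have h4 : extW w (k + 1) = c * w ⟨k, hk⟩ - w ⟨k, hk⟩ := by
        rw [← h1]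
        simp
      rw [h4]
      ring
    · rw [extW_of_ge w _ (by omega), extW_of_ge w _ (by omega), mul_zero]
  have hz := rec_zero (extW w) c n hrec (extW_of_ge w n le_rfl)
  funext i
  by_cases hi : i = ⟨0, hn⟩
  · subst hi
    simp
  · have hi' : i.val ≠ 0 := fun h0 => hi (Fin.ext h0)
    obtain ⟨k, hk⟩ := Nat.exists_eq_succ_of_ne_zero hi'
    have h1 : w i = 0 := by
      rw [← extW_of_lt w i, hk]
      exact hz k
    rw [h1]
    simp [hi]

theorem pkgU : Cfsg.Agent.Lib.Helper79.NilCover.PkgU.{u} := by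
  intro n F _ hn
  refine ⟨?_, ?_, ?_⟩
  · rw [Matrix.det_of_isUpperTriangular]
    · apply Finset.prod_eq_one
      intro i _
      unfold ncU
      simp
    · intro i j hij
      have hij' : j.val < i.val := hij
      unfold ncU
      rw [if_neg]
      rintro (h | h)
      · rw [h] at hij'
        exact lt_irrefl _ hij'
      · omega
  · funext i
    rw [ncU_mulVec_apply]
    by_cases h : i.val + 1 < n
    · have h2 : extW (Pi.single (⟨0, hn⟩ : Fin n) (1 : F) : Fin n → F) (i.val + 1) = 0 := by
        unfold extW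
        rw [dif_pos h]
        rw [Pi.single_apply, if_neg]
        intro h3
        have := congrArg Fin.val h3
        simp at this
      rw [h2, add_zero]
    · rw [extW_of_ge _ _ (by omega), add_zero]
  · intro w c h
    exact ⟨w ⟨0, hn⟩, eigen_single hn w c h⟩

end Cfsg.Agent.Lib.Helper67.NilCover
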