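import Mathlib
import Cfsg.Agent.Lib.Helper79.NilCover.Defs
import Cfsg.Agent.Lib.Helper67.NilCover.U

/-!
# S3894 package [UD]: left eigenvectors of the regular unipotent matrix `ncU`
(reduced to [U] through `Fin.rev`)
-/

set_option autoImplicit false

namespace Cfsg.Agent.Lib.Helper67.NilCover

open Matrix Cfsg.Agent.Lib.Helper79.NilCover

universe u

theorem ncU_rev {n : ℕ} {F : Type u} [Field F] (i j : Fin n) :
    ncU n F (Fin.rev j) (Fin.rev i) = ncU n F i j := by
  unfold ncU
  have h : (Fin.rev i = Fin.rev j ∨ (Fin.rev i).val = (Fin.rev j).val + 1) ↔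
      (j = i ∨ j.val = i.val + 1) := by
    rw [Fin.rev_inj]
    simp only [Fin.val_rev]
    have := i.isLt
    have := j.isLt
    constructor
    · rintro (h | h)
      · left; exact h.symm
      · right; omega
    · rintro (h | h)
      · left; exact h.symm
      · right; omega
  by_cases h1 : (j = i ∨ j.val = i.val + 1)
  · rw [if_pos h1, if_pos (h.mpr h1)]
  · rw [if_neg h1, if_neg (fun h2 => h1 (h.mp h2))]

theorem vecMul_rev {n : ℕ} {F : Type u} [Field F] (w : Fin n → F) (i : Fin n) :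
    (w ᵥ* ncU n F) (Fin.rev i) = (ncU n F *ᵥ (w ∘ Fin.rev)) i := by
  have h0 : (w ᵥ* ncU n F) (Fin.rev i) = ∑ j, w j * ncU n F j (Fin.rev i) := rfl
  have h1 : (ncU n F *ᵥ (w ∘ Fin.rev)) i = ∑ j, ncU n F i j * w (Fin.rev j) := rfl
  rw [h0, h1, ← Equiv.sum_comp Fin.revPerm (fun j => w j * ncU n F j (Fin.rev i))]
  apply Finset.sum_congr rfl
  intro j _
  simp only [Fin.revPerm_apply]
  rw [ncU_rev, mul_comm]

theorem single_last_rev {n : ℕ} {F : Type u} [Field F] (hn : 0 < n) :
    (Pi.single (⟨n - 1, Nat.sub_lt hn Nat.one_pos⟩ : Fin n) (1 : F) : Fin n → F) ∘ Fin.rev =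
      (Pi.single (⟨0, hn⟩ : Fin n) (1 : F) : Fin n → F) := by
  funext i
  have hiff : Fin.rev i = (⟨n - 1, Nat.sub_lt hn Nat.one_pos⟩ : Fin n) ↔ i = ⟨0, hn⟩ := by
    have := i.isLt
    constructor
    · intro h
      have h1 := congrArg Fin.val h
      simp only [Fin.val_rev] at h1
      apply Fin.ext
      simp only
      omega
    · intro h
      subst h
      apply Fin.ext
      simp only [Fin.val_rev]
  simp only [Function.comp_apply, Pi.single_apply]
  by_cases h : i = ⟨0, hn⟩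
  · rw [if_pos h, if_pos (hiff.mpr h)]
  · rw [if_neg h, if_neg (fun h2 => h (hiff.mp h2))]

theorem pkgUDual : Cfsg.Agent.Lib.Helper79.NilCover.PkgUDual.{u} := by
  intro n F _ hn
  have hU := pkgU.{u} n F hn
  refine ⟨?_, ?_⟩
  · funext j
    have h1 := vecMul_rev (Pi.single (⟨n - 1, Nat.sub_lt hn Nat.one_pos⟩ : Fin n) (1 : F) :
      Fin n → F) (Fin.rev j)
    rw [Fin.rev_rev, single_last_rev hn, hU.2.1] at h1
    rw [h1, ← single_last_rev hn, Function.comp_apply, Fin.rev_rev]
  · intro w c h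
    have h2 : ncU n F *ᵥ (w ∘ Fin.rev) = c • (w ∘ Fin.rev) := by
      funext i
      rw [← vecMul_rev, h]
      rfl
    have h3 := eigen_single hn (w ∘ Fin.rev) c h2
    refine ⟨(w ∘ Fin.rev) ⟨0, hn⟩, ?_⟩
    funext j
    have h4 := congrFun h3 (Fin.rev j)
    rw [Function.comp_apply, Fin.rev_rev] at h4
    rw [h4, ← single_last_rev hn]
    simp only [Pi.smul_apply, Function.comp_apply, Fin.rev_rev]

end Cfsg.Agent.Lib.Helper67.NilCover
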